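import Groth.Agent.GrassRep.QuotBC

/-!
# Base change of Grassmannians
-/

set_option autoImplicit false

universe u

open CategoryTheory CategoryTheory.Limits AlgebraicGeometry

noncomputable section

namespace Groth.GrassFlag

variable {X G X' G' : Scheme.{u}} {π : G ⟶ X} {E : X.Modules} {r : ℕ} {Q : G.Modules}
  {q : (Scheme.Modules.pullback π).obj E ⟶ Q} {a : G' ⟶ G} {π' : G' ⟶ X'} {f : X' ⟶ X}

/-- The quotient on a base change of a Grassmannian. -/
def bcQuot (H : IsPullback a π' π f) (q : (Scheme.Modules.pullback π).obj E ⟶ Q) :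
    (Scheme.Modules.pullback π').obj ((Scheme.Modules.pullback f).obj E) ⟶
      (Scheme.Modules.pullback a).obj Q :=
  (Scheme.Modules.pullbackComp π' f).hom.app E ≫ Grass.quotBC H.w q

/-- The base change of a Grassmannian is a Grassmannian. -/
theorem isGrass_bc (hG : Grass.IsGrass π E r Q q) (H : IsPullback a π' π f) :
    Grass.IsGrass π' ((Scheme.Modules.pullback f).obj E) r ((Scheme.Modules.pullback a).obj Q)
      (bcQuot H q) where
  rank := Groth.LocFree.isFinLocFreeOfRank_pullback a hG.rank
  epi := by
    have := hG.epi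
    have := GrassRep.epi_quotBC H.w q
    exact epi_comp _ _
  univ T g' L hL s' hs' := by
    let c := (Scheme.Modules.pullbackComp g' f).inv.app E
    let s : (Scheme.Modules.pullback (g' ≫ f)).obj E ⟶ L := c ≫ s'
    have hs : Epi s := epi_comp _ _
    have key : ∀ (h : T ⟶ G') (hh : h ≫ π' = g'),
        c ≫ Grass.quotBC hh (bcQuot H q) =
          Grass.quotBC (show (h ≫ a) ≫ π = g' ≫ f by rw [Category.assoc, H.w, ← Category.assoc, hh]) q ≫
            (Scheme.Modules.pullbackComp h a).inv.app Q := by
      intro h hh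
      subst hh
      have h1 := GrassRep.quotBC_quotBC (rfl : h ≫ (π' ≫ f) = h ≫ π' ≫ f) H.w q
      have h2 : c ≫ Grass.quotBC (rfl : h ≫ π' = h ≫ π') (bcQuot H q) =
          (Scheme.Modules.pullbackCongr (show h ≫ π' ≫ f = (h ≫ π') ≫ f from
            (Category.assoc _ _ _).symm)).inv.app E ≫
            Grass.quotBC (rfl : h ≫ (π' ≫ f) = h ≫ π' ≫ f) (Grass.quotBC H.w q) := by
        simp only [c, bcQuot, Grass.quotBC, GrassRep.pullbackCongr_rfl_inv, Category.id_comp,
          Functor.map_comp]
        have h3 := GrassRep.pullbackComp_assoc_app h π' f E (Category.assoc _ _ _)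
        have h4 : (Scheme.Modules.pullbackComp (h ≫ π') f).inv.app E ≫
            (Scheme.Modules.pullbackComp h π').inv.app ((Scheme.Modules.pullback f).obj E) ≫
              (Scheme.Modules.pullback h).map ((Scheme.Modules.pullbackComp π' f).hom.app E) =
            (Scheme.Modules.pullbackCongr (show h ≫ π' ≫ f = (h ≫ π') ≫ f from
              (Category.assoc _ _ _).symm)).inv.app E ≫
              (Scheme.Modules.pullbackComp h (π' ≫ f)).inv.app E := by
          rw [← cancel_mono ((Scheme.Modules.pullback h).map
            ((Scheme.Modules.pullbackComp π' f).inv.app E)), Category.assoc (obj := T.Modules), Category.assoc (obj := T.Modules),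
            ← Functor.map_comp, Iso.hom_inv_id_app]; erw [CategoryTheory.Functor.map_id, Category.comp_id]; rw [
            Category.assoc (obj := T.Modules), h3, ← Category.assoc (obj := T.Modules), GrassRep.pullbackCongr_trans_inv,
            GrassRep.pullbackCongr_rfl_inv, Category.id_comp]
        rw [reassoc_of% h4]
      rw [h2, h1]
      simp only [Grass.quotBC, Category.assoc]
      rw [← Category.assoc, GrassRep.pullbackCongr_trans_inv]
    obtain ⟨k, ⟨hk, e, he⟩, huniq⟩ := hG.univ T (g' ≫ f) L hL s hs
    let h := H.lift k g' hk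
    have hh : h ≫ π' = g' := H.lift_snd _ _ _
    have hha : h ≫ a = k := H.lift_fst _ _ _
    refine ⟨h, ⟨hh, (Scheme.Modules.pullbackComp h a).app Q ≪≫
      (Scheme.Modules.pullbackCongr hha).app Q ≪≫ e, ?_⟩, fun h' ⟨hh', e', he'⟩ => ?_⟩
    · rw [← cancel_epi c, ← Category.assoc, key h hh]
      rw [GrassRep.quotBC_congr hha]
      simp only [Iso.trans_hom, Iso.app_hom, Category.assoc, Iso.inv_hom_id_app_assoc]
      exact he
    · have hw : (h' ≫ a) ≫ π = g' ≫ f := by rw [Category.assoc, H.w, ← Category.assoc, hh']
      have h5 : h' ≫ a = k := huniq _ ⟨hw, ((Scheme.Modules.pullbackComp h' a).app Q).symm ≪≫ e', by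
        rw [Iso.trans_hom, Iso.symm_hom, Iso.app_inv, ← Category.assoc, ← key h' hh',
          Category.assoc, he']⟩
      exact H.hom_ext (h5.trans hha.symm) (hh'.trans hh.symm)

end Groth.GrassFlag
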