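import Groth.Agent.GrassSub.Scheme
import Groth.Agent.GrassSub.Bridge
import Groth.Agent.GrassSub.Plucker

/-!
# The Grassmannian of a free module over an affine base is the free Grassmannian
-/

set_option autoImplicit false
set_option linter.style.haveILetI false
set_option linter.unusedSectionVars false

universe u

open CategoryTheory Limits AlgebraicGeometry TopologicalSpace TensorProduct
open Groth.GrassRep (Pt ptMap grass pts pts_natural exists_ptMap exists_cover Natural)
open Groth.Quot Groth.GrassSub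

noncomputable section

namespace Groth.GrassFlag

variable {R : Type u} [CommRing R] {E : (S₀ R).Modules} {N d : ℕ}
  (e : Fin N → Γ(E, (⊤ : (S₀ R).Opens)))

set_option maxHeartbeats 1000000 in
/-- Locally free quotients of a module with a basis are represented by the free Grassmannian. -/
theorem exists_universal_of_basis (hE : Coh.IsCoh E)
    (hgen : Function.Bijective (Fintype.linearCombination Γ(S₀ R, ⊤) e)) :
    ∃ (K : Subobject (FGA.ET (f₀ R) E (GG R N d))),
      FlatMod.IsFinLocFreeOfRank d (cokernel K.arrow) ∧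
      ∀ (T : Over (S₀ R)) (K' : Subobject (FGA.ET (f₀ R) E T)),
        FlatMod.IsFinLocFreeOfRank d (cokernel K'.arrow) →
          ∃! g : T ⟶ GG R N d, FGA.quotPull (f₀ R) E g K = K' := by
  have := hE.1
  obtain ⟨KG, hKG, hKGp⟩ := exists_family (R := R) (d := d) (f₀ R) (vv e) hE
    (KTheory.LocFree.isCoh (LocFree.isFinLocFree_unit _))
  have hcond : ∀ (A : CommAlgCat.{u} R) (z : Pt A ⟶ GG R N d),
      Cond e A (pts R (Fin N → R) d A z) := fun A z r hr => by
    obtain rfl : r = 0 := hgen.1 ((LinearMap.mem_ker.1 hr).trans (map_zero _).symm)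
    convert Submodule.zero_mem (Nvec (pts R (Fin N → R) d A z)) using 1
    funext l
    exact map_zero (toA A)
  -- the quotient is locally free
  have hrank : FlatMod.IsFinLocFreeOfRank d (cokernel KG.arrow) := by
    obtain ⟨ι, A, t, hop, hcov⟩ := exists_cover (GG R N d)
    refine isFinLocFreeOfRank_cover fun x => ?_
    obtain ⟨i, hi⟩ := hcov (PicF.XTproj (f₀ R) (GG R N d) x)
    refine ⟨_, PicF.XTmap (f₀ R) (t i), inferInstance, (mem_opensRange_XTmap (f₀ R) (t i) x).2 hi, ?_⟩
    obtain ⟨θ, -⟩ := exists_quotPull_cokernel_iso (f₀ R) (t i) KG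
    refine LocFree.isFinLocFreeOfRank_of_iso θ.symm ?_
    rw [hKGp]
    exact (kOf_facts e (A i) hgen.2 hE _ (hcond (A i) (t i))).1
  refine ⟨KG, hrank, fun T K' hK' => ?_⟩
  obtain ⟨ι, A, t, hop, hcov⟩ := exists_cover T
  choose N₀ hN₀ hC hk using fun i => exists_point e (A i) hgen.2 (FGA.quotPull (f₀ R) E (t i) K')
    (isFinLocFreeOfRank_quotPull (f₀ R) (t i) hK')
  let z : ∀ i, Pt (A i) ⟶ GG R N d := fun i => (pts R (Fin N → R) d (A i)).symm (N₀ i)
  have hinj : ∀ (B : CommAlgCat.{u} R) (a b : Pt B ⟶ GG R N d),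
      FGA.quotPull (f₀ R) E a KG = FGA.quotPull (f₀ R) E b KG → a = b := fun B a b hab => by
    rw [hKGp, hKGp] at hab
    exact (pts R (Fin N → R) d B).injective (Nvec_injective (by
      rw [← (kOf_facts e B hgen.2 hE _ (hcond B a)).2, ← (kOf_facts e B hgen.2 hE _ (hcond B b)).2,
        hab]))
  have hzK : ∀ i, FGA.quotPull (f₀ R) E (z i) KG = FGA.quotPull (f₀ R) E (t i) K' := fun i => by
    rw [hKGp, Equiv.apply_symm_apply, hk]
  obtain ⟨g, hg⟩ := GrassRep.exists_glue t hcov z fun i j B a b hab => hinj B _ _ (by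
    rw [← quotPull_comp, ← quotPull_comp, hzK, hzK, quotPull_comp, quotPull_comp, hab])
  refine ⟨g, eq_of_cover (f₀ R) t hcov _ _ fun i => by rw [quotPull_comp, hg, hzK],
    fun g' hg' => ?_⟩
  have key : ∀ i, t i ≫ g' = t i ≫ g := fun i => hinj _ _ _ (by
    rw [← quotPull_comp, hg', hg, hzK])
  exact Over.OverMorphism.ext ((GrassRep.coverOf (fun i => (t i).left) hcov).hom_ext _ _
    fun i => congrArg CommaMorphism.left (key i))

/-- A Grassmannian of a module with a basis is the free Grassmannian. -/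
theorem exists_iso_grass {G : Scheme.{u}} {π : G ⟶ S₀ R} {Q : G.Modules}
    {q : (Scheme.Modules.pullback π).obj E ⟶ Q} (hG : Grass.IsGrass π E d Q q)
    {s : Fin N → Γ(E, (⊤ : (S₀ R).Opens))} (hs : PicAux.Basis' E ⊤ s) :
    ∃ h : G ⟶ (GG R N d).left, IsIso h ∧ h ≫ (GG R N d).hom = π := by
  have hb := hs ⊤ le_rfl
  simp only [PicAux.res_self] at hb
  have hgen : Function.Bijective (Fintype.linearCombination Γ(S₀ R, ⊤) s) := by
    convert hb using 1
    funext r
    exact Fintype.linearCombination_apply _ _ _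
  obtain ⟨K, hK, huniv⟩ := exists_universal_of_basis (d := d) s
    (KTheory.LocFree.isCoh (LocFree.isFinLocFree_of_rank (LocFree.isFinLocFreeOfRank_of_basis hs)))
    hgen
  obtain ⟨Q', q', hG'⟩ := exists_isGrass_of_universal hK huniv
  exact exists_iso_of_isGrass hG hG'

end Groth.GrassFlag
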