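import Groth.Agent.GrassFlag.Fibres
import Groth.Agent.GrassFlag.FreeFam
import Groth.Agent.GrassFlag.BaseChange

/-!
# Grassmannian bundles of finite locally free modules
-/

set_option autoImplicit false
set_option linter.style.haveILetI false

universe u

open CategoryTheory CategoryTheory.Limits AlgebraicGeometry
open Groth.PicAux (Basis')

noncomputable section

namespace Groth.GrassFlag

/-- A Grassmannian bundle of a finite locally free module is smooth, proper, with irreducible fibres. -/
theorem grass_bundle {X G : Scheme.{u}} {π : G ⟶ X} {E : X.Modules} {r N : ℕ} {Q : G.Modules}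
    {q : (Scheme.Modules.pullback π).obj E ⟶ Q} (hG : Grass.IsGrass π E r Q q)
    (hE : FlatMod.IsFinLocFreeOfRank N E) (hr : r ≤ N) :
    SmoothOfRelativeDimension (r * (N - r)) π ∧ IsProper π ∧
      ∀ x : X, IsIrreducible (π ⁻¹' {x}) := by
  choose U s hU hxU hs using fun x : X => LocFree.exists_affine_basis_ofRank hE x
  let R : X → Type u := fun x => Γ(X, U x)
  let φ : ∀ x, Spec (CommRingCat.of (R x)) ⟶ X := fun x => (hU x).fromSpec
  have hiso : ∀ x, ∃ h : pullback π (φ x) ⟶ (GrassRep.grass (R x) (Fin N → R x) r).left,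
      IsIso h ∧ h ≫ (GrassRep.grass (R x) (Fin N → R x) r).hom = pullback.snd π (φ x) := fun x => by
    have hp : Basis' ((Scheme.Modules.pullback (φ x)).obj E) (φ x ⁻¹ᵁ U x) _ := (hs x).pull (φ x)
    exact exists_iso_grass (isGrass_bc hG (IsPullback.of_hasPullback π (φ x)))
      (hp.res' (hU x).fromSpec_preimage_self.ge)
  let 𝒰 : X.OpenCover :=
    { I₀ := X
      X := fun x => Spec (CommRingCat.of (R x))
      f := φ
      mem₀ := by
        rw [Scheme.presieve₀_mem_precoverage_iff]
        refine ⟨fun x => ⟨x, ?_⟩, fun x => (hU x).isOpenImmersion_fromSpec⟩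
        show x ∈ Set.range (hU x).fromSpec
        rw [(hU x).range_fromSpec]
        exact hxU x }
  refine ⟨?_, ?_, fun x => ?_⟩
  · refine IsZariskiLocalAtTarget.of_openCover (P := @SmoothOfRelativeDimension (r * (N - r))) 𝒰
      fun x => ?_
    obtain ⟨h, hh, hw⟩ := hiso x
    show SmoothOfRelativeDimension _ (pullback.snd π (φ x))
    rw [← hw, MorphismProperty.cancel_left_of_respectsIso (@SmoothOfRelativeDimension (r * (N - r)))]
    exact (grass_free_properties hr).1
  · refine IsZariskiLocalAtTarget.of_openCover (P := @IsProper) 𝒰 fun x => ?_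
    obtain ⟨h, hh, hw⟩ := hiso x
    show IsProper (pullback.snd π (φ x))
    rw [← hw]
    have := (grass_free_properties (R := R x) (n := N) hr).2
    infer_instance
  · obtain ⟨h, hh, hw⟩ := hiso x
    obtain ⟨y, hy⟩ : x ∈ Set.range (φ x) := by
      show x ∈ Set.range (hU x).fromSpec
      rw [(hU x).range_fromSpec]
      exact hxU x
    have := (hU x).isOpenImmersion_fromSpec
    have : IsOpenImmersion (φ x) := (hU x).isOpenImmersion_fromSpec
    have hsq : π ⁻¹' {x} = (inv h ≫ pullback.fst π (φ x)) ''
        ((GrassRep.grass (R x) (Fin N → R x) r).hom ⁻¹' {y}) := by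
      ext t
      constructor
      · intro ht
        obtain ⟨t', rfl⟩ : t ∈ Set.range (pullback.fst π (φ x)) := by
          rw [Scheme.Pullback.range_fst]
          exact ⟨y, hy.trans (Set.mem_singleton_iff.1 ht).symm⟩
        refine ⟨h t', ?_, ?_⟩
        · show (GrassRep.grass (R x) (Fin N → R x) r).hom (h t') ∈ ({y} : Set _)
          rw [← Scheme.Hom.comp_apply, hw, Set.mem_singleton_iff]
          apply (φ x).isOpenEmbedding.injective
          rw [hy, ← Scheme.Hom.comp_apply, ← pullback.condition, Scheme.Hom.comp_apply]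
          exact ht
        · rw [← Scheme.Hom.comp_apply, IsIso.hom_inv_id_assoc]
      · rintro ⟨z, hz, rfl⟩
        show π ((inv h ≫ pullback.fst π (φ x)) z) ∈ ({x} : Set _)
        rw [← Scheme.Hom.comp_apply, Category.assoc, pullback.condition, ← hw, Category.assoc,
          IsIso.inv_hom_id_assoc, Scheme.Hom.comp_apply, Set.mem_singleton_iff,
          Set.mem_singleton_iff.1 hz, hy]
    rw [hsq]
    exact (isIrreducible_fibre hr y).image _ (Scheme.Hom.continuous _).continuousOn

end Groth.GrassFlag
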