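import Groth.Agent.GrassRep.Free
import Groth.Agent.GrassRep.Linked

/-!
# The Grassmannian of a free module has nonempty irreducible fibres
-/

set_option autoImplicit false
set_option linter.style.haveILetI false

universe u

open CategoryTheory CategoryTheory.Limits AlgebraicGeometry TensorProduct
open Groth.GrassRep

noncomputable section

namespace Groth.GrassFlag

variable {R : Type u} [CommRing R] {n k : ℕ}

/-- The points of a chart in one fibre form a preirreducible set. -/
theorem isPreirreducible_chart_fibre (τ : Fin k → Fin n) (hτ : Function.Injective τ)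
    (p : Spec (CommRingCat.of R)) :
    IsPreirreducible (Set.range (jj R (Fin n → R) k (xs R τ)).left ∩
      (grass R (Fin n → R) k).hom ⁻¹' {p}) := by
  let σ := ULift.{u} (FreeIdx τ)
  let al : Pc R (xs R τ) ⟶ CommAlgCat.of R (MvPolynomial σ R) :=
    CommAlgCat.ofHom (chartAlgEquiv R hτ).toAlgHom
  have : IsIso (CommRingCat.ofHom (chartAlgEquiv R hτ).toAlgHom.toRingHom) :=
    (ConcreteCategory.isIso_iff_bijective _).mpr (chartAlgEquiv R hτ).bijective
  have : IsIso (ptMap al).left := inferInstanceAs (IsIso (Spec.map _))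
  let θ : 𝔸(σ; Spec (CommRingCat.of R)) ⟶ (Pt (Pc R (xs R τ))).left :=
    (AffineSpace.SpecIso σ (CommRingCat.of R)).hom ≫ (ptMap al).left
  let h := θ ≫ (jj R (Fin n → R) k (xs R τ)).left
  have hh : h ≫ (grass R (Fin n → R) k).hom = 𝔸(σ; Spec (CommRingCat.of R)) ↘ _ := by
    rw [Category.assoc, Over.w, Category.assoc, Over.w]
    rw [← cancel_epi (AffineSpace.SpecIso σ (CommRingCat.of R)).inv, Iso.inv_hom_id_assoc,
      AffineSpace.SpecIso_inv_over]
    rfl
  let q := 𝔸(σ; Spec (CommRingCat.of R)) ↘ Spec (CommRingCat.of R)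
  have hp : IsPreirreducible (q ⁻¹' {p}) := by
    rw [← Scheme.Hom.range_fiberι, ← Set.image_univ]
    exact (PreirreducibleSpace.isPreirreducible_univ).image _ (q.fiberι p).continuous.continuousOn
  have hr : Set.range (jj R (Fin n → R) k (xs R τ)).left ∩ (grass R (Fin n → R) k).hom ⁻¹' {p} =
      h '' (q ⁻¹' {p}) := by
    ext t
    constructor
    · rintro ⟨⟨a, rfl⟩, ht⟩
      obtain ⟨b, rfl⟩ := θ.homeomorph.surjective a
      refine ⟨b, ?_, rfl⟩
      show q b ∈ ({p} : Set _)
      rw [← show (h ≫ (grass R (Fin n → R) k).hom) b = q b from by rw [hh]]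
      exact ht
    · rintro ⟨b, hb, rfl⟩
      refine ⟨⟨θ b, rfl⟩, ?_⟩
      show (grass R (Fin n → R) k).hom (h b) ∈ ({p} : Set _)
      rw [← Scheme.Hom.comp_apply, hh]
      exact hb
  rw [hr]
  exact hp.image _ h.continuous.continuousOn

/-- Two standard charts have a common rational point over every field. -/
theorem exists_inChart_inChart {K : Type u} [Field K] [Algebra R K] {τ σ : Fin k → Fin n}
    (hτ : Function.Injective τ) (hσ : Function.Injective σ) :
    ∃ N : Module.Grassmannian K (K ⊗[R] (Fin n → R)) k,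
      InChart (xs R τ) N ∧ InChart (xs R σ) N := by
  classical
  obtain ⟨ρ, hρ⟩ : ∃ ρ : Fin k ≃ Fin k, ∀ i j, τ i = σ j → ρ j = i := by
    let e : {j // σ j ∈ Set.range τ} ≃ {i // τ i ∈ Set.range σ} :=
      { toFun := fun j => ⟨j.2.choose, ⟨j.1, j.2.choose_spec.symm⟩⟩
        invFun := fun i => ⟨i.2.choose, ⟨i.1, i.2.choose_spec.symm⟩⟩
        left_inv := fun j => Subtype.ext (hσ ((Exists.choose_spec
          (⟨j.1, j.2.choose_spec.symm⟩ : τ j.2.choose ∈ Set.range σ)).trans j.2.choose_spec))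
        right_inv := fun i => Subtype.ext (hτ ((Exists.choose_spec
          (⟨i.1, i.2.choose_spec.symm⟩ : σ i.2.choose ∈ Set.range τ)).trans i.2.choose_spec)) }
    refine ⟨e.extendSubtype, fun i j hij => ?_⟩
    have hj : σ j ∈ Set.range τ := ⟨i, hij⟩
    rw [Equiv.extendSubtype_apply_of_mem e j hj]
    exact hτ (hj.choose_spec.trans hij.symm)
  let w : Fin n → Fin k → K := fun l =>
    if h : l ∈ Set.range τ then Pi.single h.choose 1
    else if h' : l ∈ Set.range σ then Pi.single (ρ h'.choose) 1 else 0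
  have hwτ : ∀ i, w (τ i) = Pi.single i 1 := fun i => by
    have h : τ i ∈ Set.range τ := ⟨i, rfl⟩
    simp only [w, dif_pos h]
    rw [hτ h.choose_spec]
  have hwσ : ∀ j, w (σ j) = Pi.single (ρ j) 1 := fun j => by
    by_cases h : σ j ∈ Set.range τ
    · simp only [w, dif_pos h]
      rw [hρ h.choose j h.choose_spec]
    · have h' : σ j ∈ Set.range σ := ⟨j, rfl⟩
      simp only [w, dif_neg h, dif_pos h']
      rw [hσ h'.choose_spec]
  let φ : (Fin n → R) →ₗ[R] Fin k → K := Fintype.linearCombination R w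
  have hφ : ∀ l, φ (Pi.single l 1) = w l := fun l => by
    rw [Fintype.linearCombination_apply_single, one_smul]
  let c : ChartMap R K (xs R τ) := ⟨φ, fun i => by rw [xs, hφ, hwτ]⟩
  refine ⟨ofCoef c, inChart_ofCoef c, ?_⟩
  rw [InChart, ← LinearMap.range_eq_top, eq_top_iff]
  rintro z -
  obtain ⟨v, rfl⟩ := inChart_ofCoef c z
  have hb : ∀ j, sel (xs R τ) (ofCoef c) (Pi.single (ρ j) 1) ∈
      LinearMap.range (sel (xs R σ) (ofCoef c)) := fun j => by
    refine ⟨Pi.single j 1, ?_⟩
    have h1 := sel_coef (inChart_ofCoef c) (xs R σ j)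
    rw [coef_ofCoef] at h1
    rw [show c.1 (xs R σ j) = Pi.single (ρ j) 1 from (hφ _).trans (hwσ j)] at h1
    rw [h1]
    simp [sel, Fintype.linearCombination_apply_single]
  rw [show v = ∑ j, v (ρ j) • (Pi.single (ρ j) 1 : Fin k → K) from by
    rw [Equiv.sum_comp ρ (fun i => v i • (Pi.single i 1 : Fin k → K))]
    exact pi_eq_sum_univ' v, map_sum]
  exact Submodule.sum_mem _ fun j _ => by rw [map_smul]; exact Submodule.smul_mem _ _ (hb j)

/-- Two standard charts meet in every fibre. -/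
theorem nonempty_chart_inter_fibre {τ σ : Fin k → Fin n} (hτ : Function.Injective τ)
    (hσ : Function.Injective σ) (p : Spec (CommRingCat.of R)) :
    ((Set.range (jj R (Fin n → R) k (xs R τ)).left ∩
        Set.range (jj R (Fin n → R) k (xs R σ)).left) ∩
      (grass R (Fin n → R) k).hom ⁻¹' {p}).Nonempty := by
  let P : PrimeSpectrum R := p
  let K := P.asIdeal.ResidueField
  obtain ⟨N, h₁, h₂⟩ := exists_inChart_inChart (R := R) (K := K) hτ hσ
  let A : CommAlgCat.{u} R := CommAlgCat.of R K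
  let g : Pt A ⟶ grass R (Fin n → R) k := (pts R (Fin n → R) k A).symm N
  have h₁' : InChart (xs R τ) (pts R (Fin n → R) k A g) := by rwa [Equiv.apply_symm_apply]
  have h₂' : InChart (xs R σ) (pts R (Fin n → R) k A g) := by rwa [Equiv.apply_symm_apply]
  let q : (Pt A).left := (⊥ : PrimeSpectrum K)
  refine ⟨g.left q, ⟨⟨(ptMap (CommAlgCat.ofHom (toChart h₁'))).left q, ?_⟩,
    ⟨(ptMap (CommAlgCat.ofHom (toChart h₂'))).left q, ?_⟩⟩, ?_⟩
  · rw [← Scheme.Hom.comp_apply, ← Over.comp_left, ← eq_chart g h₁']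
  · rw [← Scheme.Hom.comp_apply, ← Over.comp_left, ← eq_chart g h₂']
  · show (grass R (Fin n → R) k).hom (g.left q) ∈ ({p} : Set _)
    rw [← Scheme.Hom.comp_apply, Over.w, Set.mem_singleton_iff]
    apply PrimeSpectrum.ext
    show (⊥ : Ideal K).comap (algebraMap R K) = P.asIdeal
    exact Ideal.ker_algebraMap_residueField _

/-- The fibres of the Grassmannian of a free module are irreducible. -/
theorem isIrreducible_fibre (hk : k ≤ n) (p : Spec (CommRingCat.of R)) :
    IsIrreducible ((grass R (Fin n → R) k).hom ⁻¹' {p}) := by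
  have hτ₀ : Function.Injective (Fin.castLE hk) := Fin.castLE_injective hk
  refine ⟨(nonempty_chart_inter_fibre hτ₀ hτ₀ p).mono Set.inter_subset_right, ?_⟩
  have hcov : ∀ t : (grass R (Fin n → R) k).left, ∃ τ : Fin k → Fin n, Function.Injective τ ∧
      t ∈ Set.range (jj R (Fin n → R) k (xs R τ)).left := fun t => by
    obtain ⟨x, hxs, hx, K, N, hK, hN⟩ := exists_chart_mem
      (s := Set.range fun l : Fin n => (Pi.single l 1 : Fin n → R))
      (by simpa [← Pi.basisFun_apply] using (Pi.basisFun R (Fin n)).span_eq) t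
    choose τ hτ using hxs
    obtain rfl : x = xs R τ := funext fun i => (hτ i).symm
    exact ⟨τ, injective_of_inChart hN, hx⟩
  have hop : ∀ τ : Fin k → Fin n, IsOpen (Set.range (jj R (Fin n → R) k (xs R τ)).left) :=
    fun τ => (jj R (Fin n → R) k (xs R τ)).left.opensRange.2
  intro U V hU hV ⟨a, haF, haU⟩ ⟨b, hbF, hbV⟩
  obtain ⟨τ, hτ, ha⟩ := hcov a
  obtain ⟨σ, hσ, hb⟩ := hcov b
  obtain ⟨c, ⟨hcτ, hcF⟩, hcU, hcσ⟩ := isPreirreducible_chart_fibre τ hτ p U _ hU (hop σ)
    ⟨a, ⟨ha, haF⟩, haU⟩ (by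
      obtain ⟨t, ⟨h1, h2⟩, h3⟩ := nonempty_chart_inter_fibre hτ hσ p
      exact ⟨t, ⟨h1, h3⟩, h2⟩)
  obtain ⟨d, ⟨-, hdF⟩, hd⟩ := isPreirreducible_chart_fibre σ hσ p U V hU hV
    ⟨c, ⟨hcσ, hcF⟩, hcU⟩ ⟨b, ⟨hb, hbF⟩, hbV⟩
  exact ⟨d, hdF, hd⟩

/-- The properties of the Grassmannian of a free module. -/
theorem grass_free_properties (hk : k ≤ n) :
    SmoothOfRelativeDimension (k * (n - k)) (grass R (Fin n → R) k).hom ∧
      IsProper (grass R (Fin n → R) k).hom := by
  have he : Natural (grass R (Fin n → R) k) (pts R (Fin n → R) k) := fun A B φ g g' h => by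
    obtain rfl := (GrassRep.left_eq_iff φ g g').1 h
    exact (pts_natural A B φ g).trans (by rw [Module.Grassmannian.functor_map]; rfl)
  exact ⟨(smooth_and_cover he).1, isProper_free hk he⟩

end Groth.GrassFlag
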