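import Groth.Agent.GrassFlag.Bundle

/-!
# Partial flag schemes: existence, towers of Grassmannian bundles
-/

set_option autoImplicit false
set_option linter.style.haveILetI false

universe u

open CategoryTheory CategoryTheory.Limits AlgebraicGeometry

noncomputable section

namespace Groth.GrassFlag

variable {X F : Scheme.{u}} {π : F ⟶ X} {E : X.Modules}

/-- An empty flag scheme is the base. -/
theorem isIso_of_isFlag_zero {n : Fin 0 → ℕ} {Q : Fin 0 → F.Modules}
    {q : ∀ i, (Scheme.Modules.pullback π).obj E ⟶ Q i} (hF : Grass.IsFlag π E n Q q) : IsIso π := by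
  let σ := hF.lift (𝟙 X) (fun i => i.elim0) (fun i => i.elim0) (fun i => i.elim0) (fun i => i.elim0)
    (fun i => i.elim0)
  have hσ : σ ≫ π = 𝟙 X := hF.lift_comp _ _ _ _ _ _
  refine ⟨σ, ?_, hσ⟩
  exact (hF.univ F π Q hF.rank q hF.epi hF.nested).unique
    ⟨by rw [Category.assoc, hσ, Category.comp_id], fun i => i.elim0, fun i => i.elim0⟩
    ⟨Category.id_comp _, fun i => i.elim0, fun i => i.elim0⟩

/-- The base is an empty flag scheme. -/
theorem exists_isFlag_zero (E : X.Modules) (n : Fin 0 → ℕ) :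
    ∃ (F : Scheme.{u}) (π : F ⟶ X) (Q : Fin 0 → F.Modules)
      (q : ∀ i, (Scheme.Modules.pullback π).obj E ⟶ Q i), Grass.IsFlag π E n Q q := by
  refine ⟨X, 𝟙 X, fun i => i.elim0, fun i => i.elim0,
    ⟨fun i => i.elim0, fun i => i.elim0, fun i => i.elim0, fun T g L hL s hs hn =>
      ⟨g, ⟨Category.comp_id g, fun i => i.elim0, fun i => i.elim0⟩, fun h ⟨hg, _, _⟩ => ?_⟩⟩⟩
  rw [← hg, Category.comp_id]

/-- A one-step flag scheme is a Grassmannian. -/
theorem isGrass_of_isFlag_one {n : Fin 1 → ℕ} {Q : Fin 1 → F.Modules}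
    {q : ∀ i, (Scheme.Modules.pullback π).obj E ⟶ Q i} (hF : Grass.IsFlag π E n Q q) :
    Grass.IsGrass π E (n 0) (Q 0) (q 0) where
  rank := hF.rank 0
  epi := hF.epi 0
  univ T g L hL s hs := by
    obtain ⟨h, ⟨hg, e, he⟩, huniq⟩ := hF.univ T g (fun _ => L)
      (fun i => by rw [Subsingleton.elim i 0]; exact hL) (fun _ => s) (fun _ => hs)
      (fun _ _ _ => ⟨𝟙 _, Category.comp_id _⟩)
    refine ⟨h, ⟨hg, e 0, he 0⟩, fun h' ⟨hg', e', he'⟩ => huniq h' ⟨hg', fun i =>
      Fin.cases (motive := fun i => (Scheme.Modules.pullback h').obj (Q i) ≅ L) e'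
        (fun j => j.elim0) i, fun i => ?_⟩⟩
    refine Fin.cases ?_ (fun j => j.elim0) i
    exact he'

variable {m : ℕ}

/-- Adding one step to a flag scheme by a Grassmannian bundle. -/
theorem exists_isFlag_snoc {n : Fin (m + 2) → ℕ} {Q : Fin (m + 1) → F.Modules}
    {q : ∀ i, (Scheme.Modules.pullback π).obj E ⟶ Q i}
    (hF : Grass.IsFlag π E (fun i => n (Fin.castSucc i)) Q q) {G : Scheme.{u}} {ρ : G ⟶ F}
    {Qg : G.Modules} {qg : (Scheme.Modules.pullback ρ).obj (Q (Fin.last m)) ⟶ Qg}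
    (hG : Grass.IsGrass ρ (Q (Fin.last m)) (n (Fin.last (m + 1))) Qg qg) :
    ∃ (Q' : Fin (m + 2) → G.Modules)
      (q' : ∀ i, (Scheme.Modules.pullback (ρ ≫ π)).obj E ⟶ Q' i),
      Grass.IsFlag (ρ ≫ π) E n Q' q' := by
  let Q' : Fin (m + 2) → G.Modules :=
    Fin.lastCases Qg fun i => (Scheme.Modules.pullback ρ).obj (Q i)
  have eC : ∀ i, Q' (Fin.castSucc i) = (Scheme.Modules.pullback ρ).obj (Q i) :=
    fun i => Fin.lastCases_castSucc i
  have eL : Q' (Fin.last (m + 1)) = Qg := Fin.lastCases_last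
  let aC : ∀ i, (Scheme.Modules.pullback (ρ ≫ π)).obj E ⟶ (Scheme.Modules.pullback ρ).obj (Q i) :=
    fun i => Grass.quotBC rfl (q i)
  let aL : (Scheme.Modules.pullback (ρ ≫ π)).obj E ⟶ Qg := aC (Fin.last m) ≫ qg
  let q' : ∀ i, (Scheme.Modules.pullback (ρ ≫ π)).obj E ⟶ Q' i :=
    Fin.lastCases (aL ≫ eqToHom eL.symm) fun i => aC i ≫ eqToHom (eC i).symm
  have qC : ∀ i, q' (Fin.castSucc i) = aC i ≫ eqToHom (eC i).symm :=
    fun i => Fin.lastCases_castSucc i
  have qL : q' (Fin.last (m + 1)) = aL ≫ eqToHom eL.symm := Fin.lastCases_last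
  have hepiC : ∀ i, Epi (aC i) := fun i => by
    have := hF.epi i
    exact GrassRep.epi_quotBC _ _
  refine ⟨Q', q', ⟨fun i => ?_, fun i => ?_, fun i => ?_, fun T g L hL s hs hn => ?_⟩⟩
  · refine Fin.lastCases ?_ (fun j => ?_) i
    · rw [eL]; exact hG.rank
    · rw [eC]; exact LocFree.isFinLocFreeOfRank_pullback ρ (hF.rank j)
  · refine Fin.lastCases ?_ (fun j => ?_) i
    · rw [qL]
      have := hepiC (Fin.last m)
      have := hG.epi
      infer_instance
    · rw [qC]
      have := hepiC j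
      infer_instance
  · refine Fin.lastCases ?_ (fun a => ?_) i
    · intro j hj
      rw [Fin.last_le_iff.mp hj]
      exact ⟨𝟙 _, Category.comp_id _⟩
    · intro j
      refine Fin.lastCases ?_ (fun b => ?_) j
      · intro _
        obtain ⟨v, hv⟩ := hF.nested a (Fin.last m) (Fin.le_last _)
        refine ⟨eqToHom (eC a) ≫ (Scheme.Modules.pullback ρ).map v ≫ qg ≫ eqToHom eL.symm, ?_⟩
        rw [qC, qL, Category.assoc, eqToHom_trans_assoc, eqToHom_refl, Category.id_comp,
          ← Category.assoc (aC a), ← GrassRep.quotBC_comp, hv, ← Category.assoc]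
      · intro hj
        obtain ⟨v, hv⟩ := hF.nested a b (Fin.castSucc_le_castSucc_iff.mp hj)
        refine ⟨eqToHom (eC a) ≫ (Scheme.Modules.pullback ρ).map v ≫ eqToHom (eC b).symm, ?_⟩
        rw [qC, qC, Category.assoc, eqToHom_trans_assoc, eqToHom_refl, Category.id_comp,
          ← Category.assoc (aC a), ← GrassRep.quotBC_comp, hv]
  -- universality
  obtain ⟨k, ⟨hk, e, he⟩, hkuniq⟩ := hF.univ T g (fun i => L (Fin.castSucc i))
    (fun i => hL _) (fun i => s (Fin.castSucc i)) (fun i => hs _)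
    (fun i j hij => hn _ _ (Fin.castSucc_le_castSucc_iff.mpr hij))
  obtain ⟨t, ht⟩ := hn (Fin.castSucc (Fin.last m)) (Fin.last (m + 1)) (Fin.le_last _)
  have htepi : Epi t := by
    have : Epi (s (Fin.castSucc (Fin.last m)) ≫ t) := ht ▸ hs _
    exact epi_of_epi (s (Fin.castSucc (Fin.last m))) t
  obtain ⟨h, ⟨hh, eg, heg⟩, huniq⟩ := hG.univ T k (L (Fin.last (m + 1))) (hL _)
    ((e (Fin.last m)).hom ≫ t) (epi_comp _ _)
  have hsubC : ∀ (h : T ⟶ G) (hg : h ≫ ρ ≫ π = g) (hk' : (h ≫ ρ) ≫ π = g) (i : Fin (m + 1)),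
      Grass.quotBC hg (aC i) =
        Grass.quotBC hk' (q i) ≫ (Scheme.Modules.pullbackComp h ρ).inv.app (Q i) :=
    fun h hg hk' i => GrassRep.quotBC_quotBC hg rfl (q i)
  have hkey : ∀ (h : T ⟶ G) (hg : h ≫ ρ ≫ π = g) (hkρ : h ≫ ρ = k),
      Grass.quotBC hg aL = Grass.quotBC hk (q (Fin.last m)) ≫ Grass.quotBC hkρ qg := by
    intro h hg hkρ
    subst hkρ
    rw [GrassRep.quotBC_comp, hsubC h hg hk]
    simp only [Grass.quotBC, GrassRep.pullbackCongr_rfl_inv, Category.id_comp, Category.assoc]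
  have hhg : h ≫ ρ ≫ π = g := by rw [← Category.assoc, hh, hk]
  have hepiK : Epi (Grass.quotBC hk (q (Fin.last m))) := by
    have := hF.epi (Fin.last m)
    exact GrassRep.epi_quotBC _ _
  refine ⟨h, ⟨hhg, Fin.lastCases
    ((Scheme.Modules.pullback h).mapIso (eqToIso eL) ≪≫ eg)
    (fun i => (Scheme.Modules.pullback h).mapIso (eqToIso (eC i)) ≪≫
      (Scheme.Modules.pullbackComp h ρ).app (Q i) ≪≫
        (Scheme.Modules.pullbackCongr hh).app (Q i) ≪≫ e i), fun i => ?_⟩, fun h' ⟨hg', e', he'⟩ => ?_⟩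
  · refine Fin.lastCases ?_ (fun j => ?_) i
    · simp only [Fin.lastCases_last, Iso.trans_hom, Functor.mapIso_hom, eqToIso.hom]
      rw [qL, GrassRep.quotBC_comp, Category.assoc, ← Functor.map_comp_assoc, eqToHom_trans,
        eqToHom_refl, CategoryTheory.Functor.map_id, Category.id_comp, hkey h hhg hh, Category.assoc,
        heg, ← Category.assoc, he, ht]
    · simp only [Fin.lastCases_castSucc, Iso.trans_hom, Functor.mapIso_hom, Iso.app_hom,
        eqToIso.hom]
      rw [qC, GrassRep.quotBC_comp, Category.assoc, ← Functor.map_comp_assoc, eqToHom_trans,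
        eqToHom_refl, CategoryTheory.Functor.map_id, Category.id_comp,
        hsubC h hhg (by rw [hh, hk]), Category.assoc, Iso.inv_hom_id_app_assoc,
        GrassRep.quotBC_congr hh, Category.assoc, Iso.inv_hom_id_app_assoc]
      exact he j
  · have hk' : (h' ≫ ρ) ≫ π = g := by rw [Category.assoc, hg']
    have hC : ∀ i, Grass.quotBC hk' (q i) ≫ ((Scheme.Modules.pullbackComp h' ρ).inv.app (Q i) ≫
        (Scheme.Modules.pullback h').map (eqToHom (eC i).symm) ≫ (e' (Fin.castSucc i)).hom) =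
          s (Fin.castSucc i) := fun i => by
      have := he' (Fin.castSucc i)
      rw [qC, GrassRep.quotBC_comp, hsubC h' hg' hk'] at this
      simpa only [Category.assoc] using this
    have hρ : h' ≫ ρ = k := hkuniq _ ⟨hk', fun i => ((Scheme.Modules.pullbackComp h' ρ).app (Q i)).symm ≪≫
      (Scheme.Modules.pullback h').mapIso (eqToIso (eC i).symm) ≪≫ e' (Fin.castSucc i), fun i => by
        simpa only [Iso.trans_hom, Iso.symm_hom, Iso.app_inv, Functor.mapIso_hom, eqToIso.hom]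
          using hC i⟩
    refine huniq h' ⟨hρ, (Scheme.Modules.pullback h').mapIso (eqToIso eL.symm) ≪≫
      e' (Fin.last (m + 1)), ?_⟩
    rw [← cancel_epi (Grass.quotBC hk (q (Fin.last m))), ← Category.assoc, ← hkey h' hg' hρ,
      Iso.trans_hom, Functor.mapIso_hom, eqToIso.hom, ← Category.assoc, ← GrassRep.quotBC_comp, ← qL,
      he', ← Category.assoc, he, ht]

/-- Flag schemes of finite locally free modules exist. -/
theorem exists_isFlag {N : ℕ} (hE : FlatMod.IsFinLocFreeOfRank N E) :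
    ∀ (m : ℕ) (n : Fin m → ℕ), ∃ (F : Scheme.{u}) (π : F ⟶ X) (Q : Fin m → F.Modules)
      (q : ∀ i, (Scheme.Modules.pullback π).obj E ⟶ Q i), Grass.IsFlag π E n Q q := by
  intro m
  induction m with
  | zero => exact fun n => exists_isFlag_zero E n
  | succ m ih =>
    intro n
    obtain rfl | ⟨j, rfl⟩ : m = 0 ∨ ∃ j, m = j + 1 :=
      m.eq_zero_or_pos.imp id fun h => ⟨m - 1, by omega⟩
    · obtain ⟨G, π, Q, q, -, hG⟩ := GrassSub.exists_isGrass
        (KTheory.LocFree.isCoh (LocFree.isFinLocFree_of_rank hE)) (n 0)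
      have hn : ![n 0] = n := funext fun i => by rw [Subsingleton.elim i 0]; rfl
      exact ⟨G, π, fun _ => Q, fun _ => q, hn ▸ Grass.IsFlag.of_isGrass hG⟩
    · obtain ⟨F₁, π₁, Q₁, q₁, hF₁⟩ := ih fun i => n (Fin.castSucc i)
      obtain ⟨G, ρ, Qg, qg, -, hG⟩ := GrassSub.exists_isGrass
        (KTheory.LocFree.isCoh (LocFree.isFinLocFree_of_rank (hF₁.rank (Fin.last j))))
        (n (Fin.last (j + 1)))
      obtain ⟨Q', q', hF'⟩ := exists_isFlag_snoc hF₁ hG
      exact ⟨G, ρ ≫ π₁, Q', q', hF'⟩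

/-- The rank of the module cut by the last step of a flag scheme. -/
abbrev prevRank (N : ℕ) {m : ℕ} (n : Fin (m + 1) → ℕ) : ℕ :=
  (Fin.cons N n : Fin (m + 2) → ℕ) (Fin.castSucc (Fin.last m))

/-- The morphism forgetting the last step of a flag is a Grassmannian bundle. -/
theorem step_properties {N : ℕ} (hE : FlatMod.IsFinLocFreeOfRank N E) {n : Fin (m + 1) → ℕ}
    (hn : StrictAnti n) (hN : ∀ i, n i < N) {Q : Fin (m + 1) → F.Modules}
    {q : ∀ i, (Scheme.Modules.pullback π).obj E ⟶ Q i} (hF : Grass.IsFlag π E n Q q)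
    {F₁ : Scheme.{u}} {π₁ : F₁ ⟶ X} {Q₁ : Fin m → F₁.Modules}
    {q₁ : ∀ i, (Scheme.Modules.pullback π₁).obj E ⟶ Q₁ i}
    (hF₁ : Grass.IsFlag π₁ E (fun i => n (Fin.castSucc i)) Q₁ q₁) :
    ∃ (ρ : F ⟶ F₁) (hρ : ρ ≫ π₁ = π)
      (ι : ∀ i, (Scheme.Modules.pullback ρ).obj (Q₁ i) ≅ Q (Fin.castSucc i)),
      (∀ i, Grass.quotBC hρ (q₁ i) ≫ (ι i).hom = q (Fin.castSucc i)) ∧
      SmoothOfRelativeDimension (n (Fin.last m) * (prevRank N n - n (Fin.last m))) ρ ∧
        IsProper ρ ∧ ∀ x : F₁, IsIrreducible (ρ ⁻¹' {x}) := by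
  rcases m with _ | j
  · have := isIso_of_isFlag_zero hF₁
    have hρ : (π ≫ inv π₁) ≫ π₁ = π := by simp
    refine ⟨π ≫ inv π₁, hρ, fun i => i.elim0, fun i => i.elim0, ?_⟩
    obtain ⟨h1, h2, h3⟩ := grass_bundle (isGrass_of_isFlag_one hF) hE (hN 0).le
    refine ⟨?_, inferInstance, fun x => ?_⟩
    · rw [MorphismProperty.cancel_right_of_respectsIso (@SmoothOfRelativeDimension _)]
      simpa [prevRank] using h1
    · convert h3 (π₁ x) using 1
      ext t
      show (π ≫ inv π₁) t = x ↔ π t = π₁ x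
      rw [← π₁.homeomorph.injective.eq_iff]
      show π₁ ((π ≫ inv π₁) t) = π₁ x ↔ _
      rw [← Scheme.Hom.comp_apply, hρ]
  · let hle := fun (a b : Fin (j + 1)) (hab : a ≤ b) =>
      hF.nested (Fin.castSucc a) (Fin.castSucc b) (Fin.castSucc_le_castSucc_iff.mpr hab)
    let ρ := hF₁.lift π (fun i => Q (Fin.castSucc i)) (fun i => hF.rank _)
      (fun i => q (Fin.castSucc i)) (fun i => hF.epi _) hle
    let ι := hF₁.liftIso π (fun i => Q (Fin.castSucc i)) (fun i => hF.rank _)
      (fun i => q (Fin.castSucc i)) (fun i => hF.epi _) hle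
    have hι := hF₁.quotBC_liftIso π (fun i => Q (Fin.castSucc i)) (fun i => hF.rank _)
      (fun i => q (Fin.castSucc i)) (fun i => hF.epi _) hle
    refine ⟨ρ, hF₁.lift_comp _ _ _ _ _ _, ι, hι, ?_⟩
    obtain ⟨t, ht⟩ := hF.nested (Fin.castSucc (Fin.last j)) (Fin.last (j + 1)) (Fin.le_last _)
    have := grass_bundle (GrassRep.isGrass_lift hF₁ hF ρ (hF₁.lift_comp _ _ _ _ _ _) ι hι t ht)
      (hF₁.rank (Fin.last j)) (hn (Fin.castSucc_lt_last _)).le
    have e1 : prevRank N n = n (Fin.castSucc (Fin.last j)) := by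
      show (Fin.cons N n : Fin (j + 3) → ℕ) (Fin.castSucc (Fin.last (j + 1))) = _
      rw [← Fin.succ_last, Fin.castSucc_succ, Fin.cons_succ]
    rw [e1]
    exact this

/-- Flag schemes of finite locally free modules over an irreducible base are irreducible. -/
theorem irreducibleSpace_flag [IrreducibleSpace X] {N : ℕ} (hE : FlatMod.IsFinLocFreeOfRank N E) :
    ∀ (m : ℕ) {F : Scheme.{u}} {π : F ⟶ X} {n : Fin m → ℕ}, StrictAnti n → (∀ i, n i < N) →
      ∀ {Q : Fin m → F.Modules} {q : ∀ i, (Scheme.Modules.pullback π).obj E ⟶ Q i},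
        Grass.IsFlag π E n Q q → IrreducibleSpace F := by
  intro m
  induction m with
  | zero =>
    intro F π n _ _ Q q hF
    have := isIso_of_isFlag_zero hF
    have h := (IrreducibleSpace.isIrreducible_univ X).image (inv π) (inv π).continuous.continuousOn
    have hsurj : Function.Surjective (inv π) := (inv π).homeomorph.surjective
    rw [Set.image_univ, Set.range_eq_univ.2 hsurj] at h
    exact (irreducibleSpace_def F).2 h
  | succ m ih =>
    intro F π n hn hN Q q hF
    obtain ⟨F₁, π₁, Q₁, q₁, hF₁⟩ := exists_isFlag hE m fun i => n (Fin.castSucc i)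
    have := ih (fun a b hab => hn (Fin.castSucc_lt_castSucc_iff.2 hab)) (fun i => hN _) hF₁
    obtain ⟨ρ, -, -, -, hsm, -, hirr⟩ := step_properties hE hn hN hF hF₁
    have : Smooth ρ := hsm.smooth
    refine (irreducibleSpace_def F).2 ?_
    have h := (IrreducibleSpace.isIrreducible_univ F₁).preimage_of_isPreirreducible_fiber ρ
      ρ.isOpenMap (fun x => (hirr x).isPreirreducible)
      (by
        obtain ⟨x⟩ := (inferInstance : Nonempty F₁)
        obtain ⟨t, ht⟩ := (hirr x).nonempty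
        exact ⟨x, trivial, t, ht⟩)
    simpa using h

/-- The morphism forgetting steps of a flag is smooth, proper and surjective. -/
theorem forget_properties {N : ℕ} (hE : FlatMod.IsFinLocFreeOfRank N E) {k : ℕ} {F₀ : Scheme.{u}}
    {π₀ : F₀ ⟶ X} {Q₀ : Fin k → F₀.Modules} {q₀ : ∀ i, (Scheme.Modules.pullback π₀).obj E ⟶ Q₀ i} :
    ∀ (m : ℕ) {F : Scheme.{u}} {π : F ⟶ X} {n : Fin m → ℕ}, StrictAnti n → (∀ i, n i < N) →
      ∀ {Q : Fin m → F.Modules} {q : ∀ i, (Scheme.Modules.pullback π).obj E ⟶ Q i},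
      Grass.IsFlag π E n Q q → ∀ (hk : k ≤ m)
        (_ : Grass.IsFlag π₀ E (fun i => n (Fin.castLE hk i)) Q₀ q₀),
        ∃ (h : F ⟶ F₀) (hh : h ≫ π₀ = π)
          (e : ∀ i, (Scheme.Modules.pullback h).obj (Q₀ i) ≅ Q (Fin.castLE hk i)),
          (∀ i, Grass.quotBC hh (q₀ i) ≫ (e i).hom = q (Fin.castLE hk i)) ∧
          SmoothOfRelativeDimension (∑ i : Fin m, if k ≤ (i : ℕ)
            then n i * ((Fin.cons N n : Fin (m + 1) → ℕ) (Fin.castSucc i) - n i) else 0) h ∧
          IsProper h ∧ Surjective h := by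
  intro m
  induction m with
  | zero =>
    intro F π n _ _ Q q hF hk hF₀
    obtain rfl : k = 0 := Nat.le_zero.1 hk
    have := isIso_of_isFlag_zero hF
    have := isIso_of_isFlag_zero hF₀
    refine ⟨π ≫ inv π₀, by simp, fun i => i.elim0, fun i => i.elim0, ?_, inferInstance, inferInstance⟩
    rw [Fintype.sum_empty]
    infer_instance
  | succ m ih =>
    intro F π n hn hN Q q hF hk hF₀
    obtain rfl | hkm := hk.eq_or_lt
    · let g := hF₀.lift π Q hF.rank q hF.epi hF.nested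
      let g' := hF.lift π₀ Q₀ hF₀.rank q₀ hF₀.epi hF₀.nested
      have hgg : g ≫ g' = 𝟙 F := (hF.univ F π Q hF.rank q hF.epi hF.nested).unique
        ⟨by rw [Category.assoc, hF.lift_comp, hF₀.lift_comp], fun i =>
          ((Scheme.Modules.pullbackComp g g').app (Q i)).symm ≪≫
            (Scheme.Modules.pullback g).mapIso (hF.liftIso π₀ Q₀ hF₀.rank q₀ hF₀.epi hF₀.nested i) ≪≫
            hF₀.liftIso π Q hF.rank q hF.epi hF.nested i, fun i => by
          rw [Iso.trans_hom, Iso.trans_hom, Iso.symm_hom, Iso.app_inv, Functor.mapIso_hom,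
            ← Category.assoc _ ((Scheme.Modules.pullback g).map _), ← Category.assoc (Grass.quotBC _ _),
            GrassRep.quotBC_base_change (hF₀.lift_comp _ _ _ _ _ _) (hF.lift_comp _ _ _ _ _ _) _ _ _
              (hF.quotBC_liftIso π₀ Q₀ hF₀.rank q₀ hF₀.epi hF₀.nested i)]
          exact hF₀.quotBC_liftIso π Q hF.rank q hF.epi hF.nested i⟩
        ⟨Category.id_comp _, fun i => (Scheme.Modules.pullbackId F).app (Q i),
          fun i => GrassRep.quotBC_id (Category.id_comp _) (q i)⟩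
      have hgg' : g' ≫ g = 𝟙 F₀ :=
        (hF₀.univ F₀ π₀ Q₀ hF₀.rank q₀ hF₀.epi hF₀.nested).unique
        ⟨by rw [Category.assoc, hF₀.lift_comp, hF.lift_comp], fun i =>
          ((Scheme.Modules.pullbackComp g' g).app (Q₀ i)).symm ≪≫
            (Scheme.Modules.pullback g').mapIso (hF₀.liftIso π Q hF.rank q hF.epi hF.nested i) ≪≫
            hF.liftIso π₀ Q₀ hF₀.rank q₀ hF₀.epi hF₀.nested i, fun i => by
          rw [Iso.trans_hom, Iso.trans_hom, Iso.symm_hom, Iso.app_inv, Functor.mapIso_hom,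
            ← Category.assoc _ ((Scheme.Modules.pullback g').map _), ← Category.assoc (Grass.quotBC _ _),
            GrassRep.quotBC_base_change (hF.lift_comp _ _ _ _ _ _) (hF₀.lift_comp _ _ _ _ _ _) _ _ _
              (hF₀.quotBC_liftIso π Q hF.rank q hF.epi hF.nested i)]
          exact hF.quotBC_liftIso π₀ Q₀ hF₀.rank q₀ hF₀.epi hF₀.nested i⟩
        ⟨Category.id_comp _, fun i => (Scheme.Modules.pullbackId F₀).app (Q₀ i),
          fun i => GrassRep.quotBC_id (Category.id_comp _) (q₀ i)⟩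
      have : IsIso g := ⟨g', hgg, hgg'⟩
      refine ⟨g, hF₀.lift_comp _ _ _ _ _ _, hF₀.liftIso π Q hF.rank q hF.epi hF.nested,
        hF₀.quotBC_liftIso π Q hF.rank q hF.epi hF.nested, ?_, inferInstance, inferInstance⟩
      rw [Finset.sum_eq_zero fun i _ => if_neg (Nat.not_le.2 i.2)]
      infer_instance
    · have hkm : k ≤ m := Nat.lt_succ_iff.1 hkm
      obtain ⟨F₁, π₁, Q₁, q₁, hF₁⟩ := exists_isFlag hE m fun i => n (Fin.castSucc i)
      obtain ⟨h₁, hh₁, e₁, he₁, hs₁, hp₁, hj₁⟩ :=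
        ih (fun a b hab => hn (Fin.castSucc_lt_castSucc_iff.2 hab)) (fun i => hN _) hF₁ hkm hF₀
      obtain ⟨ρ, hρ, ι, hι, hs₂, hp₂, hirr⟩ := step_properties hE hn hN hF hF₁
      have : Surjective ρ := ⟨fun x => (hirr x).nonempty⟩
      refine ⟨ρ ≫ h₁, by rw [Category.assoc, hh₁, hρ], fun i =>
        ((Scheme.Modules.pullbackComp ρ h₁).app (Q₀ i)).symm ≪≫
          (Scheme.Modules.pullback ρ).mapIso (e₁ i) ≪≫ ι (Fin.castLE hkm i), fun i => ?_, ?_,
        inferInstance, inferInstance⟩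
      · rw [Iso.trans_hom, Iso.trans_hom, Iso.symm_hom, Iso.app_inv, Functor.mapIso_hom,
          ← Category.assoc _ ((Scheme.Modules.pullback ρ).map _), ← Category.assoc (Grass.quotBC _ _),
          GrassRep.quotBC_base_change hρ hh₁ _ _ _ (he₁ i)]
        exact hι (Fin.castLE hkm i)
      · rw [Fin.sum_univ_castSucc, if_pos (show k ≤ ((Fin.last m : Fin (m + 1)) : ℕ) from hkm),
          Nat.add_comm]
        have hsum : ∀ i : Fin m, (Fin.cons N n : Fin (m + 2) → ℕ) (Fin.castSucc (Fin.castSucc i)) =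
            (Fin.cons N (fun i => n (Fin.castSucc i)) : Fin (m + 1) → ℕ) (Fin.castSucc i) := fun i => by
          generalize Fin.castSucc i = j
          refine Fin.cases ?_ (fun l => ?_) j
          · simp
          · simp [Fin.castSucc_succ]
        simp only [Fin.val_castSucc, hsum]
        have := hs₁
        have := hs₂
        infer_instance

end Groth.GrassFlag
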