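import Groth.Agent.GrassFlag.Flag
import Groth.Agent.PropsBasic2.Reduced
import Groth.Agent.KTheory.KvbModel
import Groth.Agent.LocFree.SES

/-!
# A modification on which a locally free module is filtered with invertible quotients
-/

set_option autoImplicit false
set_option linter.style.haveILetI false

universe u

open CategoryTheory CategoryTheory.Limits AlgebraicGeometry TopologicalSpace
open scoped ZeroObject

noncomputable section

namespace Groth.GrassFlag

/-- The kernels in a composite of epimorphisms form a short exact sequence. -/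
theorem shortExact_kernels {C : Type*} [Category C] [Abelian C] {E A B : C} (a : E ⟶ A) [Epi a]
    (t : A ⟶ B) (b : E ⟶ B) (hb : a ≫ t = b) :
    ∃ (i : kernel a ⟶ kernel b) (p : kernel b ⟶ kernel t) (w : i ≫ p = 0),
      (ShortComplex.mk i p w).ShortExact := by
  let i : kernel a ⟶ kernel b :=
    kernel.lift b (kernel.ι a) (by rw [← hb, kernel.condition_assoc, zero_comp])
  let p : kernel b ⟶ kernel t :=
    kernel.lift t (kernel.ι b ≫ a) (by rw [Category.assoc, hb, kernel.condition])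
  have hi : i ≫ kernel.ι b = kernel.ι a := kernel.lift_ι _ _ _
  have hp : p ≫ kernel.ι t = kernel.ι b ≫ a := kernel.lift_ι _ _ _
  have w : i ≫ p = 0 := by
    rw [← cancel_mono (kernel.ι t), Category.assoc, hp, reassoc_of% hi, kernel.condition, zero_comp]
  have : Mono i := mono_of_mono_fac hi
  have hk : IsLimit (KernelFork.ofι i w) :=
    KernelFork.IsLimit.ofι i w
      (fun {W} g hg => kernel.lift a (g ≫ kernel.ι b) (by
        rw [Category.assoc, ← hp, ← Category.assoc, hg, zero_comp]))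
      (fun {W} g hg => by rw [← cancel_mono (kernel.ι b), Category.assoc, hi, kernel.lift_ι])
      (fun {W} g hg m hm => by rw [← cancel_mono (kernel.ι a), kernel.lift_ι, ← hi, ← hm, Category.assoc])
  have hpb : IsPullback (kernel.ι b) p a (kernel.ι t) := by
    refine ⟨⟨hp.symm⟩, ⟨PullbackCone.IsLimit.mk _ (fun c => kernel.lift b c.fst (by
      rw [← hb, ← Category.assoc, c.condition, Category.assoc, kernel.condition, comp_zero]))
      (fun c => kernel.lift_ι _ _ _) (fun c => ?_) (fun c m hm _ => ?_)⟩⟩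
    · rw [← cancel_mono (kernel.ι t), Category.assoc, hp, kernel.lift_ι_assoc, c.condition]
    · rw [← cancel_mono (kernel.ι b), kernel.lift_ι]
      exact hm
  have : Epi p := Abelian.epi_snd_of_isLimit a (kernel.ι t) hpb.isLimit
  exact ⟨i, p, w, ⟨(ShortComplex.mk i p w).exact_of_f_is_kernel hk⟩⟩

/-- Closed subschemes with reduced sources and the same support agree, compatibly with a section. -/
theorem isIso_of_section_range {U W U' : Scheme.{u}} [IsReduced U] [IsReduced U'] (π : W ⟶ U)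
    (σ : U ⟶ W) [IsClosedImmersion σ] (hσ : σ ≫ π = 𝟙 U) (j : U' ⟶ W) [IsClosedImmersion j]
    (h : Set.range j = Set.range σ) : IsIso (j ≫ π) := by
  let a := pullback.fst σ j
  let b := pullback.snd σ j
  have : IsClosedImmersion a := MorphismProperty.pullback_fst _ _ inferInstance
  have : IsClosedImmersion b := MorphismProperty.pullback_snd _ _ inferInstance
  have : Surjective a := ⟨fun x => by
    show x ∈ Set.range (pullback.fst σ j)
    rw [Scheme.Pullback.range_fst, h]
    exact ⟨x, rfl⟩⟩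
  have : Surjective b := ⟨fun x => by
    show x ∈ Set.range (pullback.snd σ j)
    rw [Scheme.Pullback.range_snd, ← h]
    exact ⟨x, rfl⟩⟩
  have := isIso_of_isClosedImmersion_of_surjective a
  have := isIso_of_isClosedImmersion_of_surjective b
  have hab : b ≫ j ≫ π = a := by
    rw [← Category.assoc, ← pullback.condition, Category.assoc, hσ, Category.comp_id]
  exact IsIso.of_isIso_fac_left hab

/-- The coordinate quotient of a free module onto fewer coordinates. -/
theorem exists_free_proj (U : Scheme.{u}) {m r : ℕ} (n : Fin m → ℕ) (hn : Antitone n)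
    (hr : ∀ i, n i ≤ r) :
    ∃ s : ∀ i, FlatMod.freeMod U r ⟶ FlatMod.freeMod U (n i),
      (∀ i, Epi (s i)) ∧ ∀ i j, i ≤ j → ∃ t, s i ≫ t = s j := by
  let pr : ∀ (a b : ℕ), FlatMod.freeMod U a ⟶ FlatMod.freeMod U b := fun a b =>
    Sigma.desc fun l => if h : (l : ℕ) < b then Sigma.ι (fun _ : Fin b => Coh.structureModule U) ⟨l, h⟩
      else 0
  have hι : ∀ (a b : ℕ) (l : Fin a) (h : (l : ℕ) < b),
      Sigma.ι (fun _ : Fin a => Coh.structureModule U) l ≫ pr a b =
        Sigma.ι (fun _ : Fin b => Coh.structureModule U) ⟨l, h⟩ :=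
    fun a b l h => by simp [pr, h]
  have hepi : ∀ (a b : ℕ), b ≤ a → Epi (pr a b) := fun a b hab => ⟨fun f g hfg => Sigma.hom_ext _ _
    fun l => by
      rw [← hι a b ⟨l, l.2.trans_le hab⟩ l.2, Category.assoc, hfg, Category.assoc]⟩
  have hcomp : ∀ (a b c : ℕ), c ≤ b → pr a b ≫ pr b c = pr a c := fun a b c hcb =>
    Sigma.hom_ext _ _ fun l => by
      by_cases h : (l : ℕ) < b
      · by_cases h' : (l : ℕ) < c
        · rw [← Category.assoc, hι a b l h, hι b c ⟨l, h⟩ h', hι a c l h']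
        · simp [pr, h, h']
      · simp [pr, h, show ¬ (l : ℕ) < c from fun h' => h (h'.trans_le hcb)]
  exact ⟨fun i => pr r (n i), fun i => hepi r _ (hr i),
    fun i j hij => ⟨pr _ _, hcomp r _ _ (hn hij)⟩⟩

/-- A modification on which a finite locally free module has a filtration with invertible quotients. -/
theorem exists_modification_filtration (X : Scheme.{u}) [IsIntegral X] (E : X.Modules)
    (hE : FlatMod.IsFinLocFree E) :
    ∃ (X' : Scheme.{u}) (f : X' ⟶ X) (_ : IsIntegral X') (_ : IsProper f) (U : X.Opens)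
      (_ : (U : Set ↥X).Nonempty) (_ : IsIso (f ∣_ U)) (r : ℕ) (M : Fin (r + 1) → X'.Modules)
      (L : Fin r → X'.Modules),
      IsZero (M 0) ∧ Nonempty (M (Fin.last r) ≅ (Scheme.Modules.pullback f).obj E) ∧
        ∀ i : Fin r, PicF.IsInvertible (L i) ∧
          ∃ S : ShortComplex X'.Modules, S.ShortExact ∧ Nonempty (S.X₁ ≅ M i.castSucc) ∧
            Nonempty (S.X₂ ≅ M i.succ) ∧ Nonempty (S.X₃ ≅ L i) := by
  obtain ⟨r, hEr⟩ := KTheory.KvbModel.exists_rank hE
  obtain rfl | ⟨m, rfl⟩ : r = 0 ∨ ∃ m, r = m + 1 :=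
    r.eq_zero_or_pos.imp id fun h => ⟨r - 1, by omega⟩
  · have hz := KTheory.KvbModel.isZero_of_rank_zero
      (LocFree.isFinLocFreeOfRank_pullback (𝟙 X) hEr)
    exact ⟨X, 𝟙 X, inferInstance, inferInstance, ⊤, ⟨genericPoint X, trivial⟩, inferInstance, 0,
      fun _ => (Scheme.Modules.pullback (𝟙 X)).obj E, Fin.elim0, hz, ⟨Iso.refl _⟩, fun i => i.elim0⟩
  let n : Fin m → ℕ := fun i => m - (i : ℕ)
  have hn : StrictAnti n := fun a b hab => by
    have := b.2
    have : (a : ℕ) < b := hab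
    show m - (b : ℕ) < m - (a : ℕ)
    omega
  have hN : ∀ i, n i < m + 1 := fun i => by show m - (i : ℕ) < m + 1; omega
  obtain ⟨F, π, Q, q, hF⟩ := exists_isFlag hEr m n
  obtain ⟨F₀, π₀, Q₀, q₀, hF₀⟩ := exists_isFlag_zero E fun i : Fin 0 => n (Fin.castLE m.zero_le i)
  obtain ⟨h₀, hh₀, -, -, -, hprop, -⟩ := forget_properties hEr m hn hN hF m.zero_le hF₀
  have := isIso_of_isFlag_zero hF₀
  have : IsProper π := by rw [← hh₀]; infer_instance
  -- a section over a small open
  obtain ⟨U, -, -, hηU, ⟨ε⟩⟩ : ∃ (U : X.Opens) (_ : True) (_ : True), genericPoint X ∈ U ∧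
      Nonempty (E.restrict U.ι ≅ FlatMod.freeMod (↑U) (m + 1)) := by
    obtain ⟨U, hU, he⟩ := hEr (genericPoint X)
    exact ⟨U, trivial, trivial, hU, he⟩
  obtain ⟨p, hp, hpn⟩ := exists_free_proj (U : Scheme.{u}) n hn.antitone fun i => (hN i).le
  let ε' : (Scheme.Modules.pullback U.ι).obj E ≅ FlatMod.freeMod (↑U) (m + 1) :=
    ((Scheme.Modules.restrictFunctorIsoPullback U.ι).app E).symm ≪≫ ε
  let sU := fun i => ε'.hom ≫ p i
  let σ₀ := hF.lift U.ι (fun i => FlatMod.freeMod (↑U) (n i))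
    (fun i => LocFree.isFinLocFreeOfRank_freeMod _ _) sU (fun i => by have := hp i; infer_instance)
    (fun i j hij => by
      obtain ⟨t, ht⟩ := hpn i j hij
      exact ⟨t, by simp only [sU, Category.assoc, ht]⟩)
  have hσ₀ : σ₀ ≫ π = U.ι := hF.lift_comp _ _ _ _ _ _
  let σ : (U : Scheme.{u}) ⟶ (π ⁻¹ᵁ U : F.Opens) :=
    IsOpenImmersion.lift (π ⁻¹ᵁ U).ι σ₀ (by
      rintro _ ⟨x, rfl⟩
      rw [Scheme.Opens.range_ι]
      show π (σ₀ x) ∈ U
      rw [← Scheme.Hom.comp_apply, hσ₀]
      exact x.2)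
  have hσι : σ ≫ (π ⁻¹ᵁ U).ι = σ₀ := IsOpenImmersion.lift_fac _ _ _
  have hσ : σ ≫ π ∣_ U = 𝟙 _ := by
    rw [← cancel_mono U.ι, Category.assoc, morphismRestrict_ι, reassoc_of% hσι, hσ₀,
      Category.id_comp]
  have : IsClosedImmersion (σ ≫ π ∣_ U) := by rw [hσ]; infer_instance
  have hsep : IsSeparated π := inferInstance
  have : IsSeparated (π ∣_ U) := IsZariskiLocalAtTarget.restrict (P := @IsSeparated) hsep U
  have : IsClosedImmersion σ := IsClosedImmersion.of_comp σ (π ∣_ U)
  -- the closure of its generic point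
  have : Nonempty (U : Scheme.{u}) := ⟨⟨_, hηU⟩⟩
  let ξ : F := σ₀ (genericPoint (U : Scheme.{u}))
  let Z : Closeds F := ⟨closure {ξ}, isClosed_closure⟩
  let X' : Scheme.{u} := (Scheme.IdealSheafData.vanishingIdeal Z).subscheme
  let j : X' ⟶ F := (Scheme.IdealSheafData.vanishingIdeal Z).subschemeι
  have : IsReduced X' := PropsBasic2.isReduced_vanishingIdeal_subscheme Z
  have hjr : Set.range j = closure {ξ} := by
    rw [Scheme.IdealSheafData.range_subschemeι, Scheme.IdealSheafData.coe_support_vanishingIdeal]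
    rfl
  have : IrreducibleSpace X' := by
    obtain ⟨x₀, hx₀⟩ : ξ ∈ Set.range j := hjr ▸ subset_closure rfl
    have : closure {x₀} = Set.univ := by
      rw [j.isClosedEmbedding.isInducing.closure_eq_preimage_closure_image, Set.image_singleton, hx₀,
        ← hjr, Set.preimage_range]
    refine (irreducibleSpace_def X').2 ?_
    rw [Set.top_eq_univ, ← this]
    exact isIrreducible_singleton.closure
  have hX' : IsIntegral X' := isIntegral_of_irreducibleSpace_of_isReduced X'
  let f := j ≫ π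
  have hiso : IsIso (f ∣_ U) := by
    rw [morphismRestrict_comp]
    refine isIso_of_section_range (π ∣_ U) σ hσ (j ∣_ (π ⁻¹ᵁ U)) ?_
    have hpre : (π ⁻¹ᵁ U).ι ⁻¹' closure {ξ} = Set.range σ := by
      rw [show ({ξ} : Set F) = (π ⁻¹ᵁ U).ι '' {σ (genericPoint (U : Scheme.{u}))} by
          rw [Set.image_singleton, ← Scheme.Hom.comp_apply, hσι],
        ← (π ⁻¹ᵁ U).ι.isOpenEmbedding.isInducing.closure_eq_preimage_closure_image,
        ← Set.image_singleton (f := σ), σ.isClosedEmbedding.closure_image_eq,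
        genericPoint_closure, Set.image_univ]
    rw [← hpre, ← hjr]
    ext t
    constructor
    · rintro ⟨x, rfl⟩
      refine ⟨(j ⁻¹ᵁ (π ⁻¹ᵁ U)).ι x, ?_⟩
      rw [← Scheme.Hom.comp_apply, ← morphismRestrict_ι]
      rfl
    · rintro ⟨x, hx⟩
      have hxU : x ∈ j ⁻¹ᵁ (π ⁻¹ᵁ U) := by
        show j x ∈ π ⁻¹ᵁ U
        rw [hx]
        exact t.2
      refine ⟨⟨x, hxU⟩, (π ⁻¹ᵁ U).ι.isOpenEmbedding.injective ?_⟩
      show ((j ∣_ (π ⁻¹ᵁ U)) ≫ (π ⁻¹ᵁ U).ι) ⟨x, hxU⟩ = (π ⁻¹ᵁ U).ι t
      rw [morphismRestrict_ι]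
      exact hx
  -- the chain of quotients
  let E' := (Scheme.Modules.pullback f).obj E
  let a : ∀ i, E' ⟶ (Scheme.Modules.pullback j).obj (Q i) := fun i => Grass.quotBC rfl (q i)
  let A : Fin (m + 2) → Σ C : X'.Modules, (E' ⟶ C) :=
    Fin.cases ⟨E', 𝟙 E'⟩ (Fin.lastCases ⟨0, 0⟩ fun i => ⟨_, a i⟩)
  have A0 : A 0 = ⟨E', 𝟙 E'⟩ := rfl
  have AL : A (Fin.last (m + 1)) = ⟨0, 0⟩ := by
    show A (Fin.last m).succ = _
    simp only [A, Fin.cases_succ, Fin.lastCases_last]
  have AQ : ∀ i : Fin m, A (Fin.castSucc i).succ = ⟨_, a i⟩ := fun i => by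
    simp only [A, Fin.cases_succ, Fin.lastCases_castSucc]
  have hzero : IsZero (0 : X'.Modules) := isZero_zero _
  have hA : ∀ l : Fin (m + 2), Epi (A l).2 ∧
      FlatMod.IsFinLocFreeOfRank (m + 1 - (l : ℕ)) (A l).1 := by
    intro l
    refine Fin.cases ?_ (fun i => Fin.lastCases ?_ (fun i => ?_) i) l
    · rw [A0]
      exact ⟨inferInstanceAs (Epi (𝟙 E')), LocFree.isFinLocFreeOfRank_pullback f hEr⟩
    · rw [show (Fin.last m).succ = Fin.last (m + 1) from rfl, AL]
      refine ⟨⟨fun g h _ => hzero.eq_of_src g h⟩, ?_⟩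
      rw [Fin.val_last, Nat.sub_self]
      exact LocFree.isFinLocFreeOfRank_of_iso ((KTheory.KvbModel.isZero_of_rank_zero
        (LocFree.isFinLocFreeOfRank_freeMod X' 0)).iso hzero) (LocFree.isFinLocFreeOfRank_freeMod X' 0)
    · rw [AQ]
      refine ⟨?_, ?_⟩
      · have := hF.epi i
        exact GrassRep.epi_quotBC _ _
      · have := LocFree.isFinLocFreeOfRank_pullback j (hF.rank i)
        simpa [n] using this
  have hnest : ∀ i : Fin (m + 1), ∃ t : (A i.castSucc).1 ⟶ (A i.succ).1,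
      (A i.castSucc).2 ≫ t = (A i.succ).2 := by
    intro i
    refine Fin.cases ?_ (fun l => ?_) i
    · rw [Fin.castSucc_zero, A0]
      exact ⟨(A (Fin.succ 0)).2, Category.id_comp _⟩
    · rw [Fin.castSucc_succ, AQ]
      by_cases hl : (l : ℕ) + 1 < m
      · rw [show l.succ = Fin.castSucc (⟨l + 1, hl⟩ : Fin m) from rfl, AQ]
        obtain ⟨t, ht⟩ := hF.nested l ⟨l + 1, hl⟩ (Fin.le_def.2 (Nat.le_succ _))
        exact ⟨(Scheme.Modules.pullback j).map t, by
          simp only [a]; rw [← GrassRep.quotBC_comp, ht]⟩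
      · rw [show l.succ.succ = Fin.last (m + 1) from Fin.ext (by
          simp only [Fin.val_succ, Fin.val_last]; omega), AL]
        exact ⟨0, comp_zero⟩
  refine ⟨X', f, hX', inferInstance, U, ⟨_, hηU⟩, hiso, m + 1, fun l => kernel (A l).2,
    fun i => kernel (hnest i).choose, ?_, ?_, fun i => ?_⟩
  · show IsZero (kernel (A 0).2)
    rw [A0]
    exact IsZero.of_iso (isZero_zero _) (kernel.ofMono (𝟙 E'))
  · refine ⟨?_⟩
    show kernel (A (Fin.last (m + 1))).2 ≅ E'
    rw [AL]
    exact kernelZeroIsoSource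
  · have h1 := hA i.castSucc
    have h2 := hA i.succ
    have := h1.1
    have := h2.1
    have ht := (hnest i).choose_spec
    have : Epi (hnest i).choose := by
      have : Epi ((A i.castSucc).2 ≫ (hnest i).choose) := by rw [ht]; exact h2.1
      exact epi_of_epi (A i.castSucc).2 _
    obtain ⟨i', p', w, hS⟩ := shortExact_kernels (A i.castSucc).2 (hnest i).choose (A i.succ).2 ht
    refine ⟨LocFree.isInvertible_iff_ofRank_one.2 ?_, _, hS, ⟨Iso.refl _⟩, ⟨Iso.refl _⟩, ⟨Iso.refl _⟩⟩
    let S := ShortComplex.mk (kernel.ι (hnest i).choose) (hnest i).choose (kernel.condition _)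
    have hSE : S.ShortExact := ⟨S.exact_of_f_is_kernel (kernelIsKernel _)⟩
    refine LocFree.isFinLocFreeOfRank_left hSE (a := 1) (b := m + 1 - ((i.succ : Fin (m + 2)) : ℕ)) ?_ h2.2
    convert h1.2 using 2
    have := i.2
    simp only [Fin.val_succ, Fin.val_castSucc]
    omega

end Groth.GrassFlag
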